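import Groth.Agent.CSA.Splitting
import Groth.Agent.CiFields.Brauer
import Mathlib.FieldTheory.Fixed

/-!
# Cocycles with invariant values are coboundaries over a `C₁` field

If a finite group `G` acts faithfully on a field `P` with fixed field `C₁`, every nowhere vanishing
2-cocycle of `G` with values in the fixed field is the coboundary of a function `G → P`: the crossed
product is a central simple algebra, so a matrix algebra, and its simple module is a line over `P`.
-/

set_option autoImplicit false

universe u v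

namespace Groth.Agent.H13

open scoped BigOperators

variable {P : Type u} [Field P] {G : Type v} [Group G] [Fintype G] [MulSemiringAction G P]

local notation "F₀" => FixedPoints.subfield G P

theorem smul_fixed_mul (g : G) (c : FixedPoints.subfield G P) (x : P) : g • (c • x) = c • (g • x) := by
  show g • ((c : P) * x) = (c : P) * g • x
  rw [smul_mul', c.2 g]

/-- The twisted translation attached to `s`. -/
def twist (ζ : G → G → P) (s : G) : (G → P) →ₗ[FixedPoints.subfield G P] (G → P) where
  toFun f r := ζ s (s⁻¹ * r) * s • f (s⁻¹ * r)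
  map_add' f f' := by
    funext r
    simp [smul_add, mul_add]
  map_smul' c f := by
    funext r
    simp [smul_fixed_mul]

/-- Multiplication by a scalar of `P`. -/
def scal : P →ₐ[FixedPoints.subfield G P] Module.End (FixedPoints.subfield G P) (G → P) :=
  Algebra.lsmul (FixedPoints.subfield G P) (FixedPoints.subfield G P) (G → P)

@[simp] theorem scal_apply (a : P) (f : G → P) (r : G) : scal (G := G) a f r = a * f r := rfl

@[simp] theorem twist_apply (ζ : G → G → P) (s : G) (f : G → P) (r : G) :
    twist ζ s f r = ζ s (s⁻¹ * r) * s • f (s⁻¹ * r) := rfl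

set_option maxHeartbeats 4000000 in
theorem exists_trivialisation [FaithfulSMul G P] (hC : Curves.IsCr (FixedPoints.subfield G P) 1)
    (ζ : G → G → P) (hζ0 : ∀ s t, ζ s t ≠ 0) (hfix : ∀ g s t : G, g • ζ s t = ζ s t)
    (hco : ∀ s t x, ζ s t * ζ (s * t) x = ζ t x * ζ s (t * x)) :
    ∃ b : G → P, (∀ s, b s ≠ 0) ∧ ∀ s t, ζ s t * b (s * t) = b s * s • b t := by
  classical
  let φ := scal (P := P) (G := G)
  let u := twist ζ
  have hz1 : ∀ r, ζ 1 r = ζ 1 1 := fun r => by
    have h := hco 1 1 r
    simp only [one_mul] at h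
    exact (mul_right_cancel₀ (hζ0 1 r) h).symm
  have hua : ∀ s a, u s * φ a = φ (s • a) * u s := fun s a => by
    refine LinearMap.ext fun f => funext fun r => ?_
    simp only [Module.End.mul_apply, u, φ, twist_apply, scal_apply, smul_mul']
    exact mul_left_comm _ _ _
  have huu : ∀ s t, u s * u t = φ (ζ s t) * u (s * t) := fun s t => by
    refine LinearMap.ext fun f => funext fun r => ?_
    simp only [Module.End.mul_apply, u, φ, twist_apply, scal_apply, smul_mul', hfix]
    rw [mul_inv_rev, mul_assoc t⁻¹ s⁻¹ r, ← mul_smul]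
    have h := hco s t (t⁻¹ * (s⁻¹ * r))
    rw [mul_inv_cancel_left] at h
    simp only [← mul_assoc] at h ⊢
    rw [h]
    ring
  have hu1 : u 1 = φ (ζ 1 1) := by
    refine LinearMap.ext fun f => funext fun r => ?_
    simp [u, φ, hz1]
  let Φ : (G → P) →ₗ[F₀] Module.End F₀ (G → P) :=
    { toFun := fun a => ∑ s, φ (a s) * u s
      map_add' := fun a b => by simp [add_mul, Finset.sum_add_distrib]
      map_smul' := fun c a => by
        simp only [Pi.smul_apply, RingHom.id_apply, Finset.smul_sum, map_smul, smul_mul_assoc] }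
  have hΦs : ∀ s a, Φ (Pi.single s a) = φ a * u s := fun s a => by
    show ∑ t, φ ((Pi.single s a : G → P) t) * u t = _
    rw [Finset.sum_eq_single s]
    · simp
    · intro t _ ht; simp [ht]
    · simp
  have hΦinj : Function.Injective Φ := by
    rw [← LinearMap.ker_eq_bot, LinearMap.ker_eq_bot']
    intro a ha
    funext r
    have h := congrFun (LinearMap.congr_fun ha (Pi.single 1 1)) r
    simp only [Φ, LinearMap.coe_mk, AddHom.coe_mk, LinearMap.coe_sum, Finset.sum_apply, Module.End.mul_apply,
      LinearMap.zero_apply, Pi.zero_apply, φ, u, scal_apply, twist_apply] at h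
    rw [Finset.sum_eq_single r] at h
    · rw [inv_mul_cancel, Pi.single_eq_same, smul_one, mul_one] at h
      exact (mul_eq_zero.1 h).resolve_right (hζ0 r 1)
    · intro t _ ht
      have : t⁻¹ * r ≠ 1 := fun e => ht (inv_mul_eq_one.1 e)
      simp [this]
    · simp
  have hone : Φ (Pi.single 1 (ζ 1 1)⁻¹) = 1 := by
    rw [hΦs, hu1, ← map_mul, inv_mul_cancel₀ (hζ0 1 1), map_one]
  have hmul : ∀ x y, x ∈ LinearMap.range Φ → y ∈ LinearMap.range Φ → x * y ∈ LinearMap.range Φ := by
    rintro _ _ ⟨a, rfl⟩ ⟨b, rfl⟩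
    show (∑ s, φ (a s) * u s) * (∑ t, φ (b t) * u t) ∈ _
    rw [Finset.sum_mul]
    refine sum_mem fun s _ => ?_
    rw [Finset.mul_sum]
    refine sum_mem fun t _ => ⟨Pi.single (s * t) (a s * s • b t * ζ s t), ?_⟩
    rw [hΦs]
    calc φ (a s * s • b t * ζ s t) * u (s * t) = φ (a s) * φ (s • b t) * (u s * u t) := by
          rw [huu, map_mul, map_mul]; simp only [mul_assoc]
      _ = φ (a s) * (φ (s • b t) * u s) * u t := by simp only [mul_assoc]
      _ = φ (a s) * (u s * φ (b t)) * u t := by rw [hua]
      _ = φ (a s) * u s * (φ (b t) * u t) := by simp only [mul_assoc]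
  let C : Subalgebra F₀ (Module.End F₀ (G → P)) :=
    (LinearMap.range Φ).toSubalgebra ⟨_, hone⟩ hmul
  have hu_mem : ∀ s, u s ∈ C := fun s => ⟨Pi.single s 1, by rw [hΦs, map_one, one_mul]⟩
  have hφ_mem : ∀ a, φ a ∈ C := fun a => ⟨Pi.single 1 (a * (ζ 1 1)⁻¹), by
    rw [hΦs, hu1, ← map_mul, mul_assoc, inv_mul_cancel₀ (hζ0 1 1), mul_one]⟩
  let U : G → C := fun s => ⟨u s, hu_mem s⟩
  let L : P → C := fun a => ⟨φ a, hφ_mem a⟩
  have hL : ∀ a b, L (a * b) = L a * L b := fun a b => Subtype.ext (map_mul φ a b)
  have hL1 : L 1 = 1 := Subtype.ext (map_one φ)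
  have hUinv : ∀ s, L ((ζ s s⁻¹ * ζ 1 1)⁻¹) * (U s * U s⁻¹) = 1 := fun s => Subtype.ext <| by
    show φ _ * (u s * u s⁻¹) = 1
    rw [huu, mul_inv_cancel, hu1, ← map_mul, ← map_mul, inv_mul_cancel₀ (mul_ne_zero (hζ0 _ _) (hζ0 _ _)),
      map_one]
  haveI : Nontrivial C := inferInstance
  haveI : FiniteDimensional F₀ (G → P) := inferInstance
  haveI : Algebra.IsCentral F₀ C := by
    refine ⟨fun c hc => ?_⟩
    rw [Subalgebra.mem_center_iff] at hc
    obtain ⟨a, ha⟩ := c.2
    have h1 : ∀ s, s ≠ 1 → a s = 0 := by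
      intro s hs
      obtain ⟨y, hy⟩ : ∃ y : P, s • y ≠ y := by
        by_contra! hall
        exact hs (eq_of_smul_eq_smul fun y : P => (hall y).trans (one_smul G y).symm)
      have h : φ y * (c : Module.End F₀ (G → P)) = c * φ y := congrArg Subtype.val (hc (L y))
      have h0 : Φ (fun t => a t * (t • y - y)) = 0 := by
        rw [← ha] at h
        change φ y * (∑ t, φ (a t) * u t) = (∑ t, φ (a t) * u t) * φ y at h
        show ∑ t, φ (a t * (t • y - y)) * u t = 0
        rw [Finset.mul_sum, Finset.sum_mul] at h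
        calc ∑ t, φ (a t * (t • y - y)) * u t = ∑ t, (φ (a t) * u t * φ y - φ y * (φ (a t) * u t)) :=
              Finset.sum_congr rfl fun t _ => by
                rw [mul_assoc (φ (a t)) (u t), hua, ← mul_assoc, ← mul_assoc, ← map_mul, ← map_mul, ← sub_mul,
                  ← map_sub]
                congr 2
                ring
          _ = 0 := by rw [Finset.sum_sub_distrib, h, sub_self]
      have := congrFun (hΦinj (h0.trans (map_zero Φ).symm)) s
      exact (mul_eq_zero.1 this).resolve_right (sub_ne_zero.2 hy)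
    have ha1 : a = Pi.single 1 (a 1) := by
      funext t
      by_cases ht : t = 1
      · subst ht; simp
      · simp [ht, h1 t ht]
    have hcz : (c : Module.End F₀ (G → P)) = φ (a 1 * ζ 1 1) := by
      rw [← ha, ha1, hΦs, hu1, ← map_mul, Pi.single_eq_same]
    have hfixz : ∀ t : G, t • (a 1 * ζ 1 1) = a 1 * ζ 1 1 := fun t => by
      have h : u t * (c : Module.End F₀ (G → P)) = c * u t := congrArg Subtype.val (hc (U t))
      rw [hcz, hua, ← hΦs, ← hΦs] at h
      simpa using congrFun (hΦinj h) t
    refine Algebra.mem_bot.2 ⟨⟨_, hfixz⟩, Subtype.ext ?_⟩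
    rw [hcz]
    exact (φ.commutes (⟨_, hfixz⟩ : FixedPoints.subfield G P)).symm
  haveI : IsSimpleRing C := by
    refine IsSimpleRing.of_eq_bot_or_eq_top fun I => ?_
    by_cases hI : I = ⊥
    · exact Or.inl hI
    right
    obtain ⟨c, hcI, hc0⟩ : ∃ c ∈ I, c ≠ (0 : C) := by
      by_contra! hall
      exact hI (eq_bot_iff.2 fun x hx => by simpa using hall x hx)
    have key : ∀ n, ∀ (a : G → P) (c : C), (Finset.univ.filter (a · ≠ 0)).card = n →
        (c : Module.End F₀ (G → P)) = Φ a → c ≠ 0 → c ∈ I → (1 : C) ∈ I := by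
      intro n
      induction n using Nat.strong_induction_on with
      | _ n ih =>
        intro a c hn hca hc0 hcI
        have hne : a ≠ 0 := fun h => hc0 (Subtype.ext (by rw [hca, h, map_zero]; rfl))
        obtain ⟨s₀, hs₀⟩ := Function.ne_iff.1 hne
        by_cases hsingle : ∀ t, a t ≠ 0 → t = s₀
        · have ha : a = Pi.single s₀ (a s₀) := by
            funext t
            by_cases ht : t = s₀
            · subst ht; simp
            · simpa [ht] using mt (hsingle t) ht
          have hc : c = L (a s₀) * U s₀ := Subtype.ext (by rw [hca, ha, hΦs, Pi.single_eq_same]; rfl)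
          have : (1 : C) = L ((ζ s₀ s₀⁻¹ * ζ 1 1)⁻¹ * (a s₀)⁻¹) * c * U s₀⁻¹ := by
            rw [hc, ← mul_assoc (L _) (L _), ← hL, mul_assoc _ (a s₀)⁻¹, inv_mul_cancel₀ hs₀, mul_one,
              mul_assoc, hUinv]
          rw [this]
          exact I.mul_mem_right _ _ (I.mul_mem_left _ _ hcI)
        · push Not at hsingle
          obtain ⟨s₁, hs₁, hne₁⟩ := hsingle
          obtain ⟨y, hy⟩ : ∃ y : P, s₁ • y ≠ s₀ • y := by
            by_contra! hall
            exact hne₁ (eq_of_smul_eq_smul hall)
          let a' : G → P := fun t => a t * (t • y - s₀ • y)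
          have hca' : ((c * L y - L (s₀ • y) * c : C) : Module.End F₀ (G → P)) = Φ a' := by
            show (c : Module.End F₀ (G → P)) * φ y - φ (s₀ • y) * c = ∑ t, φ (a' t) * u t
            rw [hca]
            show (∑ t, φ (a t) * u t) * φ y - φ (s₀ • y) * (∑ t, φ (a t) * u t) = _
            rw [Finset.sum_mul, Finset.mul_sum, ← Finset.sum_sub_distrib]
            refine Finset.sum_congr rfl fun t _ => ?_
            rw [mul_assoc (φ (a t)) (u t), hua, ← mul_assoc, ← mul_assoc, ← map_mul, ← map_mul, ← sub_mul, ← map_sub]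
            congr 2
            simp only [a']
            ring
          refine ih (Finset.univ.filter (a' · ≠ 0)).card ?_ a' _ rfl hca' ?_
            (I.sub_mem (I.mul_mem_right _ _ hcI) (I.mul_mem_left _ _ hcI))
          · rw [← hn]
            refine Finset.card_lt_card ⟨fun t => ?_, fun h => ?_⟩
            · simp only [Finset.mem_filter, Finset.mem_univ, true_and, a']
              exact fun h => (mul_ne_zero_iff.1 h).1
            · have := @h s₀ (by simpa using hs₀)
              simp [a'] at this
          · intro h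
            have := congrFun (hΦinj ((hca'.symm.trans (congrArg Subtype.val h)).trans (map_zero Φ).symm)) s₁
            exact (mul_ne_zero hs₁ (sub_ne_zero.2 hy)) this
    obtain ⟨a, ha⟩ := c.2
    exact (TwoSidedIdeal.one_mem_iff I).1 (key _ a c rfl ha.symm hc0 hcI)
  haveI : FiniteDimensional F₀ C := FiniteDimensional.finiteDimensional_submodule (Subalgebra.toSubmodule C)
  obtain ⟨n, hn, D, _, _, _, _, ⟨e⟩⟩ := CSA.exists_algEquiv_matrix_divisionRing F₀ C
  have hD : Module.finrank F₀ D = 1 := CiFields.finrank_eq_one_of_isCr_one hC D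
  let eD : F₀ ≃ₐ[F₀] D := AlgEquiv.ofBijective (Algebra.ofId F₀ D) ⟨(algebraMap F₀ D).injective,
    (LinearMap.injective_iff_surjective_of_finrank_eq_finrank (f := (Algebra.ofId F₀ D).toLinearMap)
      (by rw [hD, Module.finrank_self])).1 (algebraMap F₀ D).injective⟩
  let E : C ≃ₐ[F₀] Matrix (Fin n) (Fin n) F₀ := e.trans eD.symm.mapMatrix
  have hP : Module.finrank F₀ P = Fintype.card G := FixedPoints.finrank_eq_card G P
  have hn' : n = Fintype.card G := by
    have h1 : Module.finrank F₀ C = n * n := by
      rw [E.toLinearEquiv.finrank_eq, Module.finrank_matrix, Module.finrank_self]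
      simp
    have h2 : Module.finrank F₀ C = Fintype.card G * Fintype.card G := by
      show Module.finrank F₀ (LinearMap.range Φ) = _
      rw [← (LinearEquiv.ofInjective Φ hΦinj).finrank_eq, Module.finrank_pi_fintype]
      simp [hP]
    exact Nat.mul_self_inj.1 (h1.symm.trans h2)
  let x₀ : Fin n → F₀ := Pi.single 0 1
  have hx₀ : x₀ ≠ 0 := fun h => by simpa [x₀] using congrFun h 0
  let θ : P →ₗ[F₀] (Fin n → F₀) :=
    { toFun := fun a => (E (L a)).mulVec x₀
      map_add' := fun a b => by
        rw [show L (a + b) = L a + L b from Subtype.ext (map_add φ a b), map_add, Matrix.add_mulVec]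
      map_smul' := fun c a => by
        rw [show L (c • a) = c • L a from Subtype.ext (map_smul φ c a), map_smul, Matrix.smul_mulVec,
          RingHom.id_apply] }
  have hθmul : ∀ a b, θ (a * b) = (E (L a)).mulVec (θ b) := fun a b => by
    show (E (L (a * b))).mulVec x₀ = (E (L a)).mulVec ((E (L b)).mulVec x₀)
    rw [hL, map_mul, Matrix.mulVec_mulVec]
  have hθ1 : θ 1 = x₀ := by
    show (E (L 1)).mulVec x₀ = x₀
    rw [hL1, map_one, Matrix.one_mulVec]
  have hθinj : Function.Injective θ := by
    rw [← LinearMap.ker_eq_bot, LinearMap.ker_eq_bot']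
    intro a ha
    by_contra h0
    apply hx₀
    rw [← hθ1, ← inv_mul_cancel₀ h0, hθmul, ha, Matrix.mulVec_zero]
  have hθsurj : Function.Surjective θ :=
    (LinearMap.injective_iff_surjective_of_finrank_eq_finrank
      (by rw [hP, Module.finrank_pi, Fintype.card_fin, hn'])).1 hθinj
  choose b hb using fun s => hθsurj ((E (U s)).mulVec x₀)
  refine ⟨b, fun s h0 => hx₀ ?_, fun s t => hθinj ?_⟩
  · -- `U s` is a unit, so it does not kill `x₀`
    have hs := hb s
    rw [h0, map_zero] at hs
    have : (1 : C) = L ((ζ s⁻¹ s * ζ 1 1)⁻¹) * (U s⁻¹ * U s) := by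
      simpa using (hUinv s⁻¹).symm
    rw [← Matrix.one_mulVec x₀, ← map_one E, this, map_mul, map_mul, ← Matrix.mulVec_mulVec,
      ← Matrix.mulVec_mulVec, ← hs, Matrix.mulVec_zero, Matrix.mulVec_zero]
  · calc θ (ζ s t * b (s * t)) = (E (L (ζ s t) * U (s * t))).mulVec x₀ := by
          rw [hθmul, hb, map_mul, Matrix.mulVec_mulVec]
      _ = (E (U s * U t)).mulVec x₀ := by
          rw [show L (ζ s t) * U (s * t) = U s * U t from Subtype.ext (huu s t).symm]
      _ = (E (U s)).mulVec (θ (b t)) := by rw [map_mul, ← Matrix.mulVec_mulVec, hb]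
      _ = (E (U s * L (b t))).mulVec x₀ := by
          rw [map_mul, ← Matrix.mulVec_mulVec]
          rfl
      _ = (E (L (s • b t) * U s)).mulVec x₀ := by
          rw [show U s * L (b t) = L (s • b t) * U s from Subtype.ext (hua s (b t))]
      _ = θ (b s * s • b t) := by
          rw [map_mul, ← Matrix.mulVec_mulVec, ← hb, ← hθmul, mul_comm]

end Groth.Agent.H13
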