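import Groth.Prelude.Def_NonAbH2
import Groth.Prelude.Def_ActBC
import Groth.Prelude.Def_ConstGrp
import Groth.Prelude.Def_CoactBr
import Groth.Prelude.Def_CoactBr2
import Groth.Agent.FpqcDesc.Props
import Mathlib.AlgebraicGeometry.Sites.Etale
import Mathlib.FieldTheory.Galois.Basic
import Mathlib.RingTheory.Etale.Field

/-!
# The torsor of a finite Galois extension under the constant group scheme of its Galois group
-/

set_option autoImplicit false
set_option linter.style.haveILetI false

universe u

open CategoryTheory CategoryTheory.Limits MonoidalCategory CartesianMonoidalCategory MonObj GrpObj AlgebraicGeometry Opposite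
open scoped TensorProduct

namespace Groth.Agent.H13

variable (k K M : Type u) [Field k] [Field K] [Algebra k K] [Field M] [Algebra K M] [FiniteDimensional K M]
  [DecidableEq (M ≃ₐ[K] M)]

/-- The functions on the constant group of the Galois group. -/
abbrev GalF : Type u := ConstGrp.F k (M ≃ₐ[K] M)

variable {K M} in
/-- The indicator of `g`, over `K`. -/
noncomputable def eps (g : M ≃ₐ[K] M) : K ⊗[k] GalF k K M := 1 ⊗ₜ[k] ConstGrp.e k g

variable {K M}

theorem comul_eps (g : M ≃ₐ[K] M) :
    CoalgebraStruct.comul (R := K) (eps k g) = ∑ a : M ≃ₐ[K] M, eps k a ⊗ₜ[K] eps k (a⁻¹ * g) := by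
  simp [eps, TensorProduct.comul_tmul, ConstGrp.comul_e, TensorProduct.tmul_sum]

theorem counit_eps (g : M ≃ₐ[K] M) :
    CoalgebraStruct.counit (R := K) (eps k g) = if 1 = g then (1 : K) else 0 := by
  simp [eps, TensorProduct.counit_tmul, ConstGrp.e_apply]

theorem sum_eps : ∑ g : M ≃ₐ[K] M, eps k g = 1 := by
  simp [eps, ← TensorProduct.tmul_sum, ConstGrp.sum_e, Algebra.TensorProduct.one_def]

theorem eps_mul_eps (g h : M ≃ₐ[K] M) : eps k g * eps k h = if h = g then eps k g else 0 := by
  simp only [eps, Algebra.TensorProduct.tmul_mul_tmul, one_mul, ConstGrp.e_mul_e]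
  split_ifs <;> simp

variable (K M)

/-- The coaction `m ↦ ∑ γ m ⊗ e_γ`. -/
noncomputable def galCoact : M →ₗ[K] M ⊗[K] (K ⊗[k] GalF k K M) :=
  ∑ g : M ≃ₐ[K] M, ((TensorProduct.mk K M (K ⊗[k] GalF k K M)).flip (eps k g)).comp g.toLinearMap

theorem galCoact_apply (m : M) : galCoact k K M m = ∑ g : M ≃ₐ[K] M, g m ⊗ₜ[K] eps k g := by
  simp [galCoact]

/-- The comodule of the Galois action. -/
noncomputable instance galComod : HopfRep.Comod K (K ⊗[k] GalF k K M) M where
  coact := galCoact k K M
  coassoc := by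
    refine LinearMap.ext fun m => ?_
    simp only [LinearMap.comp_apply, galCoact_apply, map_sum, LinearMap.rTensor_tmul, TensorProduct.sum_tmul,
      LinearEquiv.coe_coe, TensorProduct.assoc_tmul, LinearMap.lTensor_tmul, comul_eps, TensorProduct.tmul_sum]
    conv_rhs => rw [Finset.sum_comm]
    rw [Finset.sum_comm]
    refine Finset.sum_congr rfl fun a _ => ?_
    refine Fintype.sum_equiv (Equiv.mulLeft a) _ _ fun g => ?_
    simp [AlgEquiv.mul_apply]
  counit_comp := by
    refine LinearMap.ext fun m => ?_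
    simp only [LinearMap.comp_apply, galCoact_apply, map_sum, LinearMap.lTensor_tmul, counit_eps,
      LinearMap.flip_apply, TensorProduct.mk_apply]
    rw [Finset.sum_eq_single (1 : M ≃ₐ[K] M)]
    · simp
    · intro g _ hg; simp [Ne.symm hg]
    · simp

instance galComod_isCoactAlg : GLin.IsCoactAlg K (K ⊗[k] GalF k K M) M where
  coact_one := by
    show galCoact k K M 1 = 1
    simp [galCoact_apply, ← TensorProduct.tmul_sum, sum_eps, Algebra.TensorProduct.one_def]
  coact_mul f g := by
    show galCoact k K M (f * g) = galCoact k K M f * galCoact k K M g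
    simp only [galCoact_apply, Finset.sum_mul_sum, Algebra.TensorProduct.tmul_mul_tmul, eps_mul_eps, map_mul]
    refine Finset.sum_congr rfl fun a _ => ?_
    rw [Finset.sum_eq_single a]
    · simp
    · intro b _ hb; simp [hb]
    · simp

/-- The coaction as an algebra map. -/
noncomputable abbrev galHom : M →ₐ[K] M ⊗[K] (K ⊗[k] GalF k K M) := GLin.coactAlgHom K (K ⊗[k] GalF k K M) M

/-- `x ⊗ y ↦ ∑ γ x · y ⊗ e_γ`. -/
noncomputable def galMap : M ⊗[K] M →ₐ[K] M ⊗[K] (K ⊗[k] GalF k K M) :=
  Algebra.TensorProduct.lift (galHom k K M) Algebra.TensorProduct.includeLeft fun _ _ => Commute.all _ _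

/-- Evaluation at `g`. -/
noncomputable def evA (g : M ≃ₐ[K] M) : K ⊗[k] GalF k K M →ₐ[K] K :=
  Algebra.TensorProduct.lift (AlgHom.id K K) ((Algebra.ofId k K).comp (ConstGrp.ev k g)) fun _ _ => Commute.all _ _

theorem evA_eps (g h : M ≃ₐ[K] M) : evA k K M g (eps k h) = if g = h then 1 else 0 := by
  simp [evA, eps, ConstGrp.e_apply, Algebra.ofId_apply]

/-- Evaluation at `g`, with values in `M`. -/
noncomputable def evM (g : M ≃ₐ[K] M) : M ⊗[K] (K ⊗[k] GalF k K M) →ₐ[K] M :=
  (Algebra.TensorProduct.rid K K M).toAlgHom.comp (Algebra.TensorProduct.map (AlgHom.id K M) (evA k K M g))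

theorem evM_galMap (g : M ≃ₐ[K] M) (x y : M) : evM k K M g (galMap k K M (x ⊗ₜ[K] y)) = g x * y := by
  have h : evM k K M g (galCoact k K M x) = g x := by
    rw [galCoact_apply, map_sum, Finset.sum_eq_single g]
    · simp [evM, evA_eps]
    · intro b _ hb; simp [evM, evA_eps, Ne.symm hb]
    · simp
  rw [galMap, Algebra.TensorProduct.lift_tmul, map_mul]
  show evM k K M g (galCoact k K M x) * _ = _
  rw [h]
  simp [evM]

theorem galMap_bijective [IsGalois K M] : Function.Bijective (galMap k K M) := by
  have hinj : Function.Injective (galMap k K M) := by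
    rw [injective_iff_map_eq_zero]
    intro z hz
    let b := Module.finBasis K M
    obtain ⟨c, rfl⟩ := TensorProduct.eq_repr_basis_left b z
    have hrel : ∀ g : M ≃ₐ[K] M, ∑ i, g (b i) * c i = 0 := by
      intro g
      have := congrArg (evM k K M g) hz
      rw [map_zero, Finsupp.sum_fintype _ _ (by simp)] at this
      simpa [map_sum, evM_galMap] using this
    let Ψ : ((M ≃ₐ[K] M) → M) →ₗ[M] (Fin (Module.finrank K M) → M) :=
      { toFun := fun a i => ∑ g, a g * g (b i)
        map_add' := fun a a' => by funext i; simp [add_mul, Finset.sum_add_distrib]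
        map_smul' := fun r a => by funext i; simp [Finset.mul_sum, _root_.mul_assoc] }
    have hΨ : Function.Injective Ψ := by
      rw [← LinearMap.ker_eq_bot, LinearMap.ker_eq_bot']
      intro a ha
      have hli : LinearIndependent M fun g : M ≃ₐ[K] M => ((g : M →* M) : M → M) :=
        (linearIndependent_monoidHom M M).comp (fun g : M ≃ₐ[K] M => (g : M →* M))
          fun g g' h => AlgEquiv.ext fun x => DFunLike.congr_fun h x
      refine funext (Fintype.linearIndependent_iff.1 hli a ?_)
      funext x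
      have key : ∑ g, a g • (g.toLinearMap : M →ₗ[K] M) = 0 :=
        b.ext fun i => by simpa [Ψ] using congrFun ha i
      simpa using LinearMap.congr_fun key x
    have hΨs := (LinearMap.injective_iff_surjective_of_finrank_eq_finrank (f := Ψ) (by
      rw [Module.finrank_pi, Module.finrank_pi, Fintype.card_fin, ← Nat.card_eq_fintype_card,
        IsGalois.card_aut_eq_finrank])).1 hΨ
    have hc : ∀ j, c j = 0 := by
      intro j
      obtain ⟨a, ha⟩ := hΨs (Pi.single j 1)
      calc c j = ∑ i, Pi.single (M := fun _ => M) j 1 i * c i := by simp [Pi.single_apply]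
        _ = ∑ i, (∑ g, a g * g (b i)) * c i := Finset.sum_congr rfl fun i _ => by rw [← ha]; rfl
        _ = ∑ g, a g * ∑ i, g (b i) * c i := by
          simp_rw [Finset.sum_mul, Finset.mul_sum, _root_.mul_assoc]
          exact Finset.sum_comm
        _ = 0 := by simp [hrel]
    rw [show c = 0 from Finsupp.ext hc, Finsupp.sum_zero_index]
  refine ⟨hinj, (LinearMap.injective_iff_surjective_of_finrank_eq_finrank (f := (galMap k K M).toLinearMap) ?_).1 hinj⟩
  haveI : Module.Free k (GalF k K M) := inferInstance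
  rw [Module.finrank_tensorProduct, Module.finrank_tensorProduct, Module.finrank_baseChange,
    (ConstGrp.equivFun k (M ≃ₐ[K] M)).toLinearEquiv.finrank_eq, Module.finrank_pi, ← Nat.card_eq_fintype_card,
    IsGalois.card_aut_eq_finrank]

section Geometry

open CoactBr

theorem isIso_pt {R B C : Type u} [CommRing R] [CommRing B] [CommRing C] [Algebra R B] [Algebra R C]
    (φ : B →ₐ[R] C) (h : Function.Bijective φ) : IsIso (pt φ) := by
  let e := AlgEquiv.ofBijective φ h
  refine ⟨pt e.symm.toAlgHom, ?_, ?_⟩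
  · rw [← pt_comp]
    convert pt_id (R := R) (B := C) using 2
    exact AlgHom.ext fun x => e.apply_symm_apply x
  · rw [← pt_comp]
    convert pt_id (R := R) (B := B) using 2
    exact AlgHom.ext fun x => e.symm_apply_apply x

variable [IsGalois K M]

theorem isPseudoTorsor_action :
    NonAbH1.IsPseudoTorsorSch (action K (K ⊗[k] GalF k K M) M) := by
  set A := K ⊗[k] GalF k K M
  let F := algSpec (CommRingCat.of K)
  letI : F.Braided := braidedAlgSpec
  let μBA : sp K M ⊗ sp K A ⟶ sp K (M ⊗[K] A) := Functor.LaxMonoidal.μ F (op (CommAlgCat.of K M)) (op (CommAlgCat.of K A))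
  let μBB : sp K M ⊗ sp K M ⟶ sp K (M ⊗[K] M) := Functor.LaxMonoidal.μ F (op (CommAlgCat.of K M)) (op (CommAlgCat.of K M))
  haveI : IsIso μBA := Functor.Monoidal.μIso F (op (CommAlgCat.of K M)) (op (CommAlgCat.of K A)) |>.isIso_hom
  haveI : IsIso μBB := Functor.Monoidal.μIso F (op (CommAlgCat.of K M)) (op (CommAlgCat.of K M)) |>.isIso_hom
  have h1 : ract K A M = μBA ≫ pt (galHom k K M) := rfl
  have h2 : fst (sp K M) (sp K A) = μBA ≫ pt (Algebra.TensorProduct.includeLeft : M →ₐ[K] M ⊗[K] A) :=
    (Functor.Monoidal.μ_fst F (op (CommAlgCat.of K M)) (op (CommAlgCat.of K A))).symm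
  have hright : IsIso (lift (ract K A M) (fst (sp K M) (sp K A))) := by
    have e : lift (ract K A M) (fst (sp K M) (sp K A)) ≫ μBB = μBA ≫ pt (galMap k K M) := by
      rw [h1, h2, ← comp_lift, Category.assoc]
      exact congrArg (μBA ≫ ·) (lift_pt_pt _ _)
    haveI := isIso_pt _ (galMap_bijective k K M)
    haveI : IsIso (lift (ract K A M) (fst (sp K M) (sp K A)) ≫ μBB) := by rw [e]; infer_instance
    exact IsIso.of_isIso_comp_right _ μBB
  show IsIso (lift (leftOfRight (ract K A M)) (snd (sp K A) (sp K M)))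
  have e : lift (leftOfRight (ract K A M)) (snd (sp K A) (sp K M)) =
      ((β_ (sp K A) (sp K M)).hom ≫ (sp K M ◁ ι[sp K A])) ≫ lift (ract K A M) (fst (sp K M) (sp K A)) := by
    rw [comp_lift, leftOfRight, Category.assoc]
    congr 1
    rw [Category.assoc, whiskerLeft_fst, braiding_hom_fst]
  rw [e]
  infer_instance

theorem isLocallyTrivial : NonAbH1.IsLocallyTrivialFor Scheme.etalePrecoverage (sp K M) := by
  refine ⟨Presieve.singleton (sp K M).hom, ?_, ?_⟩
  · haveI : Nonempty (sp K M).left := inferInstanceAs (Nonempty (PrimeSpectrum M))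
    haveI : Subsingleton ↥(Spec (CommRingCat.of K)) := inferInstanceAs (Subsingleton (PrimeSpectrum K))
    refine (Scheme.singleton_mem_precoverage_iff (P := @Etale) _).2 ⟨Function.surjective_to_subsingleton _, ?_⟩
    show Etale (Spec.map (CommRingCat.ofHom (algebraMap K M)))
    rw [HasRingHomProperty.Spec_iff (P := @Etale), CommRingCat.hom_ofHom, RingHom.etale_algebraMap]
    haveI : Algebra.FormallyEtale K M := Algebra.FormallyEtale.of_isSeparable K M
    haveI : Algebra.FinitePresentation K M := Algebra.FinitePresentation.of_finiteType.mp inferInstance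
    exact ⟨inferInstance, inferInstance⟩
  · rintro S' f ⟨⟩
    exact ⟨𝟙 _, Category.id_comp _⟩

/-- The Galois torsor. -/
noncomputable def galTorsor :
    NonAbH1.TorsorSch (Red.bc (Spec.map (CommRingCat.ofHom (algebraMap k K))) (sp k (GalF k K M)))
      Scheme.etalePrecoverage :=
  haveI : IsMonHom (bcIso k K (GalF k K M)).hom := bcIso_isMonHom k K (GalF k K M)
  { X := sp K M
    act := (action K (K ⊗[k] GalF k K M) M).restrict (bcIso k K (GalF k K M)).hom
    isTorsor := by
      refine ⟨?_, isLocallyTrivial K M⟩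
      haveI : IsIso (lift (action K (K ⊗[k] GalF k K M) M).act (snd _ _)) := isPseudoTorsor_action k K M
      show IsIso (lift (((bcIso k K (GalF k K M)).hom ▷ sp K M) ≫ _) _)
      rw [← whiskerRight_snd (bcIso k K (GalF k K M)).hom (sp K M), ← comp_lift]
      infer_instance }

theorem isFinite_galGrp : IsFinite (sp k (GalF k K M)).hom := by
  show IsFinite (Spec.map (CommRingCat.ofHom (algebraMap k (GalF k K M))))
  rw [IsFinite.SpecMap_iff, CommRingCat.hom_ofHom, RingHom.finite_algebraMap]
  infer_instance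

/-- An `L₀`-form of the base change of `Spec M` gives finitely many generators over `L₀`. -/
theorem exists_surjective_of_iso (N : Type u) [Field N] [Algebra K N] [FiniteDimensional K N]
    (L L₀ : Type u) [Field L] [Algebra K L] [Field L₀] [Algebra L₀ L]
    (X₀ : Over (Spec (CommRingCat.of L₀)))
    (e : Red.bc (Spec.map (CommRingCat.ofHom (algebraMap L₀ L))) X₀ ≅
      Red.bc (Spec.map (CommRingCat.ofHom (algebraMap K L))) (sp K N)) :
    ∃ (A₀ : Type u) (_ : CommRing A₀) (_ : Algebra L₀ A₀), Module.Finite L₀ A₀ ∧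
      ∃ φ : L ⊗[L₀] A₀ →ₐ[L] L ⊗[K] N, Function.Surjective φ := by
  let f := Spec.map (CommRingCat.ofHom (algebraMap L₀ L))
  haveI hfinN : IsFinite (sp K N).hom := by
    show IsFinite (Spec.map (CommRingCat.ofHom (algebraMap K N)))
    rw [IsFinite.SpecMap_iff, CommRingCat.hom_ofHom, RingHom.finite_algebraMap]
    infer_instance
  haveI : IsFinite (Red.bc (Spec.map (CommRingCat.ofHom (algebraMap K L))) (sp K N)).hom :=
    inferInstanceAs (IsFinite (pullback.snd (sp K N).hom (Spec.map (CommRingCat.ofHom (algebraMap K L)))))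
  have hbc : IsFinite (Red.bc f X₀).hom := by
    rw [← Over.w e.hom]
    haveI : IsIso e.hom.left := (Over.forget _).map_isIso e.hom
    haveI : IsFinite e.hom.left := inferInstance
    exact MorphismProperty.comp_mem @IsFinite _ _ ‹_› ‹_›
  haveI : Surjective f := ⟨Function.surjective_to_subsingleton _⟩
  haveI : Flat f := by
    rw [HasRingHomProperty.Spec_iff (P := @Flat), CommRingCat.hom_ofHom, RingHom.flat_algebraMap_iff]
    infer_instance
  haveI := FpqcDesc.descendsAlong_isFinite.{u}
  haveI hX : IsFinite X₀.hom :=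
    MorphismProperty.of_pullback_snd_of_descendsAlong (P := @IsFinite)
      (Q := @Surjective ⊓ @Flat ⊓ @QuasiCompact) (f := X₀.hom) (g := f)
      ⟨⟨inferInstance, inferInstance⟩, inferInstance⟩ hbc
  haveI : IsAffine X₀.left := isAffine_of_isAffineHom X₀.hom
  let A₀ := Γ(X₀.left, ⊤)
  letI : Algebra L₀ A₀ := (Spec.preimage (X₀.left.isoSpec.inv ≫ X₀.hom)).hom.toAlgebra
  let i : X₀ ≅ sp L₀ A₀ := Over.isoMk X₀.left.isoSpec (by
    show X₀.left.isoSpec.hom ≫ Spec.map (Spec.preimage (X₀.left.isoSpec.inv ≫ X₀.hom)) = X₀.hom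
    rw [Spec.map_preimage, Iso.hom_inv_id_assoc])
  haveI : Module.Finite L₀ A₀ := by
    have hA : IsFinite (sp L₀ A₀).hom := by
      rw [← Over.w i.inv]
      haveI : IsIso i.inv.left := (Over.forget _).map_isIso i.inv
      exact MorphismProperty.comp_mem @IsFinite _ _ inferInstance hX
    change IsFinite (Spec.map (CommRingCat.ofHom (algebraMap L₀ A₀))) at hA
    rwa [IsFinite.SpecMap_iff, CommRingCat.hom_ofHom, RingHom.finite_algebraMap] at hA
  let j : sp L (L ⊗[L₀] A₀) ≅ sp L (L ⊗[K] N) :=
    (bcIso L₀ L A₀).symm ≪≫ (Over.pullback f).mapIso i.symm ≪≫ e ≪≫ bcIso K L N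
  let ψ := Spec.preimage j.inv.left
  have hw : CommRingCat.ofHom (algebraMap L (L ⊗[L₀] A₀)) ≫ ψ = CommRingCat.ofHom (algebraMap L (L ⊗[K] N)) := by
    apply Spec.map_injective
    exact (Spec.map_comp _ _).trans ((congrArg (· ≫ _) (Spec.map_preimage j.inv.left)).trans (Over.w j.inv))
  haveI : IsIso (Spec.map ψ) := by
    rw [show Spec.map ψ = j.inv.left from Spec.map_preimage j.inv.left]
    exact (Over.forget _).map_isIso j.inv
  haveI : IsIso ψ := by
    haveI : IsIso (Scheme.Spec.map ψ.op) := inferInstanceAs (IsIso (Spec.map ψ))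
    haveI : IsIso ψ.op := isIso_of_reflects_iso _ Scheme.Spec
    exact isIso_of_op ψ
  let φ : L ⊗[L₀] A₀ →ₐ[L] L ⊗[K] N :=
    { ψ.hom with commutes' := fun l => congrArg (fun g => g.hom l) hw }
  exact ⟨A₀, inferInstance, inferInstance, inferInstance, φ, (ConcreteCategory.bijective_of_isIso ψ).2⟩

end Geometry

end Groth.Agent.H13
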