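import Groth.Agent.H13.Crossed
import Groth.Agent.CSA.Splitting
import Groth.Agent.CSA.Modules
import Groth.Agent.CiFields.Tsen
import Groth.Agent.CiFields.AlgExt
import Groth.Agent.GalCohAux.Hilbert90GL
import Mathlib.FieldTheory.Galois.Basic
import Mathlib.RingTheory.RootsOfUnity.AlgebraicallyClosed

/-!
# Division algebras split by an extension over which a splitting field descends to a `C₁` field
-/

set_option autoImplicit false
set_option linter.style.haveILetI false

universe u

open scoped TensorProduct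

namespace Groth.Agent.H13

theorem isCr_one_of_trdeg_le (k L₀ : Type u) [Field k] [IsAlgClosed k] [Field L₀] [Algebra k L₀]
    (h : Algebra.trdeg k L₀ ≤ 1) (F : Type u) [Field F] [Algebra L₀ F] [Algebra.IsAlgebraic L₀ F] :
    Curves.IsCr F 1 := by
  rcases eq_or_ne (Algebra.trdeg k L₀) 0 with h0 | h0
  · have h0' : Curves.IsCi F 0 :=
      CiFields.isCi_of_isAlgebraic (CiFields.tsen_lang (k := k) 0 (by simpa using h0))
    intro n d f hf hd hn
    obtain ⟨a, ha, hz⟩ := h0' 1 n (fun _ => f) (fun _ => d) (fun _ => hf) (fun _ => hd)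
      (by simp at hn ⊢; omega)
    exact ⟨a, ha, hz 0⟩
  · have h1 : Algebra.trdeg k L₀ = ((1 : ℕ) : Cardinal) := by
      rw [Nat.cast_one]
      exact le_antisymm h (Cardinal.one_le_iff_ne_zero.2 h0)
    exact CiFields.isCr_of_isCi (CiFields.isCi_of_isAlgebraic (CiFields.tsen_lang (k := k) 1 h1))

/-- Finite splitting data with semilinear intertwiners of determinant one. -/
theorem exists_data (K E : Type u) [Field K] [CharZero K] [Field E] [Algebra K E] [FiniteDimensional K E]
    (D : Type u) [DivisionRing D] [Algebra E D] [Algebra.IsCentral E D] [FiniteDimensional E D] :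
    ∃ (d : ℕ) (M : Type u) (_ : Field M) (_ : Algebra K M) (_ : Algebra E M) (_ : IsScalarTower K E M)
      (f : D →ₐ[E] Matrix (Fin d) (Fin d) M),
      d ≠ 0 ∧ Module.finrank E D = d ^ 2 ∧ FiniteDimensional K M ∧ IsGalois K M ∧
      (∀ (P : Type u) [Field P] [Algebra M P] (X : Matrix (Fin d) (Fin d) P),
        (∀ a, Commute ((algebraMap M P).mapMatrix (f a)) X) → ∃ c, X = Matrix.scalar (Fin d) c) ∧
      ∀ (P : Type u) [Field P] [Algebra M P] [Algebra E P] [IsScalarTower E M P] (τ : P →ₐ[E] P),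
        ∃ g : Matrix (Fin d) (Fin d) P, g.det = 1 ∧
          ∀ a, g * τ.toRingHom.mapMatrix ((algebraMap M P).mapMatrix (f a)) =
            (algebraMap M P).mapMatrix (f a) * g := by
  classical
  obtain ⟨M₁, _, _, _, _, hs⟩ := CSA.exists_galois_splitting E D
  letI : Algebra K M₁ := ((algebraMap E M₁).comp (algebraMap K E)).toAlgebra
  haveI : IsScalarTower K E M₁ := IsScalarTower.of_algebraMap_eq fun _ => rfl
  haveI : FiniteDimensional K M₁ := Module.Finite.trans E M₁
  obtain ⟨d, hd, ⟨e⟩⟩ := hs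
  haveI : NeZero d := ⟨hd⟩
  have hrank : Module.finrank E D = d ^ 2 := by
    rw [CSA.splits_size E D e]
    exact CSA.finrank_eq_deg_sq E D
  let f₁ := CSA.splittingHom E D e
  have hf₁ : ∀ a, f₁ a = e (1 ⊗ₜ[E] a) := fun a => rfl
  have hspan : ∀ (c : M₁) a, e (c ⊗ₜ[E] a) = c • f₁ a := fun c a => by
    rw [hf₁, ← map_smul, TensorProduct.smul_tmul', smul_eq_mul, mul_one]
  -- intertwiners over `M₁`
  have hu : ∀ σ : M₁ ≃ₐ[E] M₁, ∃ g : Matrix (Fin d) (Fin d) M₁, g.det ≠ 0 ∧
      ∀ a, g * (σ : M₁ →+* M₁).mapMatrix (f₁ a) = f₁ a * g := by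
    intro σ
    let fσ : D →ₐ[E] Matrix (Fin d) (Fin d) M₁ := σ.toAlgHom.mapMatrix.comp f₁
    let φ : M₁ ⊗[E] D →ₐ[M₁] Matrix (Fin d) (Fin d) M₁ :=
      Algebra.TensorProduct.lift (Algebra.ofId M₁ _) fσ fun c a => Algebra.commutes c _
    obtain ⟨u, hu⟩ := CSA.skolemNoether (φ.comp e.symm.toAlgHom) (AlgHom.id M₁ (Matrix (Fin d) (Fin d) M₁))
    refine ⟨(u⁻¹ : (Matrix (Fin d) (Fin d) M₁)ˣ), (Matrix.isUnit_iff_isUnit_det _).1 (u⁻¹).isUnit |>.ne_zero, fun a => ?_⟩
    have h := hu (f₁ a)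
    have h' : φ (e.symm (f₁ a)) = fσ a := by
      rw [hf₁, AlgEquiv.symm_apply_apply]
      exact (Algebra.TensorProduct.lift_tmul ..).trans (by rw [map_one, one_mul])
    change φ (e.symm (f₁ a)) = _ at h
    rw [h'] at h
    change ((u⁻¹ : (Matrix (Fin d) (Fin d) M₁)ˣ) : Matrix (Fin d) (Fin d) M₁) * fσ a = f₁ a * _
    rw [h, ← mul_assoc, ← mul_assoc, Units.inv_mul, one_mul]
    rfl
  choose g hgdet hg using hu
  let Ω := AlgebraicClosure M₁
  haveI : Algebra.IsAlgebraic K Ω := Algebra.IsAlgebraic.trans K M₁ Ω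
  choose β hβ using fun σ => IsAlgClosed.exists_pow_nat_eq (algebraMap M₁ Ω (g σ).det) (Nat.pos_of_ne_zero hd)
  let S₀ : IntermediateField K Ω :=
    (IsScalarTower.toAlgHom K M₁ Ω).fieldRange ⊔ IntermediateField.adjoin K (Set.range β)
  haveI : FiniteDimensional K (IntermediateField.adjoin K (Set.range β)) :=
    IntermediateField.finiteDimensional_adjoin fun x _ => (Algebra.IsAlgebraic.isAlgebraic x).isIntegral
  haveI : FiniteDimensional K (IsScalarTower.toAlgHom K M₁ Ω).fieldRange :=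
    (AlgEquiv.ofInjectiveField (IsScalarTower.toAlgHom K M₁ Ω)).toLinearEquiv.finiteDimensional
  haveI : FiniteDimensional K S₀ := IntermediateField.finiteDimensional_sup _ _
  let Mf : IntermediateField K Ω := IntermediateField.normalClosure K S₀ Ω
  haveI : Normal K Ω := by
    haveI : IsAlgClosure K Ω := ⟨inferInstance, inferInstance⟩
    exact IsAlgClosure.normal K Ω
  have hle : S₀ ≤ Mf := IntermediateField.le_normalClosure S₀
  have hM₁ : ∀ x : M₁, algebraMap M₁ Ω x ∈ Mf := fun x =>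
    hle ((le_sup_left : _ ≤ S₀) ⟨x, rfl⟩)
  have hβm : ∀ σ, β σ ∈ Mf := fun σ =>
    hle ((le_sup_right : _ ≤ S₀) (IntermediateField.subset_adjoin K _ ⟨σ, rfl⟩))
  letI alg1 : Algebra M₁ Mf := ((algebraMap M₁ Ω).codRestrict Mf.toSubalgebra hM₁).toAlgebra
  letI algE : Algebra E Mf := ((algebraMap M₁ Mf).comp (algebraMap E M₁)).toAlgebra
  haveI : IsScalarTower E M₁ Mf := IsScalarTower.of_algebraMap_eq fun _ => rfl
  haveI : IsScalarTower K E Mf := IsScalarTower.of_algebraMap_eq fun x => Subtype.ext <| by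
    show algebraMap K Ω x = algebraMap M₁ Ω (algebraMap E M₁ (algebraMap K E x))
    rw [IsScalarTower.algebraMap_apply K M₁ Ω]
    rfl
  refine ⟨d, Mf, inferInstance, inferInstance, algE, inferInstance,
    (IsScalarTower.toAlgHom E M₁ Mf).mapMatrix.comp f₁, hd, hrank, inferInstance,
    ⟨⟩, ?_, ?_⟩
  · intro P _ _ X hX
    let j : M₁ →+* P := (algebraMap Mf P).comp (algebraMap M₁ Mf)
    have key : ∀ z : M₁ ⊗[E] D, Commute (j.mapMatrix (e z)) X := by
      intro z
      induction z using TensorProduct.induction_on with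
      | zero => rw [map_zero, map_zero]; exact Commute.zero_left X
      | add y z hy hz => rw [map_add, map_add]; exact hy.add_left hz
      | tmul c a =>
        rw [hspan, show j.mapMatrix (c • f₁ a) = j c • j.mapMatrix (f₁ a) by
          ext i k; simp]
        refine Commute.smul_left ?_ _
        exact hX a
    refine (Matrix.mem_range_scalar_of_commute_single (M := X) fun i k _ => ?_).imp fun c hc => hc.symm
    have h := key (e.symm (Matrix.single i k 1))
    rwa [AlgEquiv.apply_symm_apply, RingHom.mapMatrix_apply, Matrix.map_single, map_one] at h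
  · intro P _ _ _ _ τ
    letI algMP : Algebra M₁ P := ((algebraMap Mf P).comp (algebraMap M₁ Mf)).toAlgebra
    haveI : IsScalarTower E M₁ P := IsScalarTower.of_algebraMap_eq fun x => by
      rw [IsScalarTower.algebraMap_apply E Mf P]
      rfl
    let σ : M₁ ≃ₐ[E] M₁ := τ.restrictNormal' M₁
    have hσ : ∀ x : M₁, algebraMap M₁ P (σ x) = τ (algebraMap M₁ P x) := τ.restrictNormal_commutes M₁
    let β' : P := algebraMap Mf P ⟨β σ, hβm σ⟩
    have hb : β' ^ d = algebraMap M₁ P (g σ).det := by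
      show algebraMap Mf P ⟨β σ, hβm σ⟩ ^ d = algebraMap Mf P (algebraMap M₁ Mf (g σ).det)
      rw [← map_pow]
      congr 1
      exact Subtype.ext (hβ σ)
    have hb0 : β' ^ d ≠ 0 := by
      rw [hb]
      exact (map_ne_zero_iff _ (algebraMap M₁ P).injective).2 (hgdet σ)
    refine ⟨β'⁻¹ • (algebraMap M₁ P).mapMatrix (g σ), ?_, fun a => ?_⟩
    · rw [Matrix.det_smul, Fintype.card_fin, inv_pow, ← RingHom.map_det, ← hb, inv_mul_cancel₀ hb0]
    · have h := congrArg (algebraMap M₁ P).mapMatrix (hg σ a)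
      rw [map_mul, map_mul] at h
      have h2 : (algebraMap M₁ P).mapMatrix ((σ : M₁ →+* M₁).mapMatrix (f₁ a)) =
          τ.toRingHom.mapMatrix ((algebraMap M₁ P).mapMatrix (f₁ a)) := by
        ext i k
        exact hσ _
      rw [h2] at h
      rw [Matrix.smul_mul, Matrix.mul_smul]
      exact congrArg (β'⁻¹ • ·) h

/-- The cocycle argument. -/
theorem splits_of_generated {k : Type u} [Field k] [IsAlgClosed k] [CharZero k]
    {L₀ : Type u} [Field L₀] [Algebra k L₀] (htr : Algebra.trdeg k L₀ ≤ 1)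
    {E : Type u} [Field E] {D : Type u} [DivisionRing D] [Algebra E D] [Algebra.IsCentral E D]
    [FiniteDimensional E D]
    {d : ℕ} (hd : d ≠ 0) (hrank : Module.finrank E D = d ^ 2)
    {N P : Type u} [Field N] [Field P] [Algebra E N] [Algebra N P] [Algebra E P] [IsScalarTower E N P]
    [FiniteDimensional N P] [IsGalois N P]
    [Algebra L₀ N] [Algebra L₀ P] [IsScalarTower L₀ N P]
    (f : D →ₐ[E] Matrix (Fin d) (Fin d) P)
    (hsc : ∀ X : Matrix (Fin d) (Fin d) P, (∀ a, Commute (f a) X) → ∃ c, X = Matrix.scalar (Fin d) c)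
    (hdet : ∀ τ : P ≃ₐ[N] P, ∃ g : Matrix (Fin d) (Fin d) P, g.det = 1 ∧
      ∀ a, g * (τ : P →+* P).mapMatrix (f a) = f a * g)
    (hgen : ∀ τ : P ≃ₐ[N] P, (∀ x : P, IsAlgebraic L₀ x → τ x = x) → τ = 1) :
    Curves.Splits E D N := by
  classical
  haveI : NeZero d := ⟨hd⟩
  choose g hg1 hg using hdet
  let T : (P ≃ₐ[N] P) → Matrix (Fin d) (Fin d) P →+* Matrix (Fin d) (Fin d) P :=
    fun τ => (τ : P →+* P).mapMatrix
  have hT : ∀ σ τ X, T (σ * τ) X = T σ (T τ X) := fun σ τ X => by ext i j; rfl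
  have hTfix : ∀ τ (c : P), τ c = c → T τ (Matrix.scalar (Fin d) c) = Matrix.scalar (Fin d) c := fun τ c hc => by
    ext i j
    simp [T, Matrix.diagonal_apply]
    split <;> simp [hc]
  -- the scalar relating the intertwiners
  have hc : ∀ σ τ, ∃ c : P, g σ * T σ (g τ) = Matrix.scalar (Fin d) c * g (σ * τ) := by
    intro σ τ
    set h := g σ * T σ (g τ) with hh
    have hh1 : ∀ a, h * T (σ * τ) (f a) = f a * h := fun a => by
      rw [hT, hh, mul_assoc, ← map_mul, hg τ a, map_mul, ← mul_assoc, hg σ a, mul_assoc]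
    have hinv : (g (σ * τ)).adjugate * g (σ * τ) = 1 := by rw [Matrix.adjugate_mul, hg1, one_smul]
    have hinv' : g (σ * τ) * (g (σ * τ)).adjugate = 1 := by rw [Matrix.mul_adjugate, hg1, one_smul]
    obtain ⟨c, hc⟩ := hsc (h * (g (σ * τ)).adjugate) fun a => by
      have h2 : T (σ * τ) (f a) = (g (σ * τ)).adjugate * (f a * g (σ * τ)) := by
        rw [← hg, ← mul_assoc, hinv, one_mul]
      show f a * (h * _) = h * _ * f a
      rw [← mul_assoc, ← hh1, h2]
      simp only [mul_assoc]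
      rw [hinv', mul_one]
    exact ⟨c, by rw [← hc, mul_assoc, hinv, mul_one]⟩
  choose ζ hζ using hc
  have hζd : ∀ σ τ, ζ σ τ ^ d = 1 := fun σ τ => by
    have := congrArg Matrix.det (hζ σ τ)
    rw [Matrix.det_mul, Matrix.det_mul, ← RingHom.map_det, hg1, hg1, hg1, map_one, one_mul, mul_one] at this
    simpa [Matrix.det_diagonal] using this.symm
  letI algk : Algebra k P := ((algebraMap L₀ P).comp (algebraMap k L₀)).toAlgebra
  have hζL : ∀ σ τ, ∃ l : L₀, algebraMap L₀ P l = ζ σ τ := by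
    intro σ τ
    haveI : NeZero (d : k) := ⟨Nat.cast_ne_zero.2 hd⟩
    obtain ⟨μ, hμ⟩ := (HasEnoughRootsOfUnity.prim : ∃ m : k, IsPrimitiveRoot m d)
    obtain ⟨i, -, hi⟩ := (hμ.map_of_injective (algebraMap k P).injective).eq_pow_of_pow_eq_one (hζd σ τ)
    exact ⟨algebraMap k L₀ (μ ^ i), by rw [← hi, map_pow, map_pow]; rfl⟩
  have hτL : ∀ (τ : P ≃ₐ[N] P) (l : L₀), τ (algebraMap L₀ P l) = algebraMap L₀ P l := fun τ l => by
    rw [IsScalarTower.algebraMap_apply L₀ N P, τ.commutes]
  have hζfix : ∀ γ σ τ : P ≃ₐ[N] P, γ (ζ σ τ) = ζ σ τ := fun γ σ τ => by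
    obtain ⟨l, hl⟩ := hζL σ τ
    rw [← hl, hτL]
  have hζ0 : ∀ σ τ, ζ σ τ ≠ 0 := fun σ τ h => by simpa [h, hd] using hζd σ τ
  have hco : ∀ σ τ x, ζ σ τ * ζ (σ * τ) x = ζ τ x * ζ σ (τ * x) := fun σ τ x => by
    have h1 : g σ * T σ (g τ) * T (σ * τ) (g x) = g σ * T σ (g τ * T τ (g x)) := by
      rw [hT, map_mul, mul_assoc]
    rw [hζ, mul_assoc, hζ, hζ, map_mul, hTfix σ _ (hζfix σ τ x), ← mul_assoc, ← mul_assoc,
      ← (Matrix.scalar_commute (ζ τ x) (fun r => mul_comm _ r) (g σ)).eq, mul_assoc _ (g σ), hζ, ← mul_assoc,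
      ← map_mul, ← map_mul, mul_assoc σ τ x] at h1
    have h2 := congrArg (· * (g (σ * (τ * x))).adjugate) h1
    simp only [mul_assoc, Matrix.mul_adjugate, hg1, one_smul, mul_one] at h2
    exact Matrix.scalar_inj.1 h2
  -- restriction to the algebraic closure of `L₀` in `P`
  let P₀ : IntermediateField L₀ P := algebraicClosure L₀ P
  have hmem : ∀ (τ : P ≃ₐ[N] P) (x : P₀), τ x ∈ P₀ := fun τ x => by
    rw [mem_algebraicClosure_iff]
    exact (isAlgebraic_algHom_iff (τ.toAlgHom.restrictScalars L₀) τ.injective).2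
      (mem_algebraicClosure_iff.1 x.2)
  letI act : MulSemiringAction (P ≃ₐ[N] P) P₀ :=
    { smul := fun τ x => ⟨τ x, hmem τ x⟩
      one_smul := fun x => rfl
      mul_smul := fun σ τ x => rfl
      smul_zero := fun τ => Subtype.ext (map_zero τ)
      smul_add := fun τ x y => Subtype.ext (map_add τ (x : P) y)
      smul_one := fun τ => Subtype.ext (map_one τ)
      smul_mul := fun τ x y => Subtype.ext (map_mul τ (x : P) y) }
  haveI : FaithfulSMul (P ≃ₐ[N] P) P₀ := ⟨fun {σ τ} h => by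
    have : τ⁻¹ * σ = 1 := hgen _ fun x hx => by
      have hh : σ x = τ x := congrArg Subtype.val (h ⟨x, mem_algebraicClosure_iff.2 hx⟩)
      show τ.symm (σ x) = x
      rw [hh, AlgEquiv.symm_apply_apply]
    exact (inv_mul_eq_one.1 this).symm⟩
  let F₀ := FixedPoints.subfield (P ≃ₐ[N] P) P₀
  letI algF : Algebra L₀ F₀ := ((algebraMap L₀ P₀).codRestrict F₀ fun l τ => Subtype.ext (hτL τ l)).toAlgebra
  haveI : IsScalarTower L₀ F₀ P₀ := IsScalarTower.of_algebraMap_eq fun _ => rfl
  haveI : Algebra.IsAlgebraic L₀ F₀ := ⟨fun x =>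
    (isAlgebraic_algHom_iff (IsScalarTower.toAlgHom L₀ F₀ P₀) (algebraMap F₀ P₀).injective).1
      (Algebra.IsAlgebraic.isAlgebraic (R := L₀) (algebraMap F₀ P₀ x))⟩
  let ζ' : (P ≃ₐ[N] P) → (P ≃ₐ[N] P) → P₀ := fun σ τ => ⟨ζ σ τ, by
    obtain ⟨l, hl⟩ := hζL σ τ
    exact hl ▸ IntermediateField.algebraMap_mem _ l⟩
  obtain ⟨b, hb0, hb⟩ := exists_trivialisation (isCr_one_of_trdeg_le k L₀ htr F₀) ζ'
    (fun σ τ h => hζ0 σ τ (congrArg Subtype.val h)) (fun γ σ τ => Subtype.ext (hζfix γ σ τ))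
    (fun σ τ x => Subtype.ext (hco σ τ x))
  have hb' : ∀ σ τ, ζ σ τ * (b (σ * τ) : P) = (b σ : P) * σ (b τ : P) := fun σ τ => congrArg Subtype.val (hb σ τ)
  have hbne : ∀ σ, (b σ : P) ≠ 0 := fun σ h => hb0 σ (Subtype.ext h)
  -- the true semilinear action
  let s : (P ≃ₐ[N] P) → GL (Fin d) P := fun σ =>
    Matrix.GeneralLinearGroup.mkOfDetNeZero ((b σ : P)⁻¹ • g σ) (by
      rw [Matrix.det_smul, hg1, mul_one]
      exact pow_ne_zero _ (inv_ne_zero (hbne σ)))
  have hs : ∀ σ, (s σ : Matrix (Fin d) (Fin d) P) = (b σ : P)⁻¹ • g σ := fun σ => rfl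
  have hTsmul : ∀ σ (c : P) X, T σ (c • X) = σ c • T σ X := fun σ c X => by ext i j; simp [T]
  have hsco : ∀ σ τ : P ≃ₐ[N] P, (s (σ * τ) : Matrix (Fin d) (Fin d) P) =
      (s σ : Matrix (Fin d) (Fin d) P) * (s τ : Matrix (Fin d) (Fin d) P).map σ := fun σ τ => by
    show _ = _ * T σ (s τ : Matrix (Fin d) (Fin d) P)
    rw [hs, hs, hs, hTsmul, Matrix.smul_mul, Matrix.mul_smul, smul_smul, hζ, map_inv₀, ← mul_inv, ← hb',
      Matrix.scalar_apply, ← Matrix.smul_eq_diagonal_mul, smul_smul]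
    congr 1
    rw [mul_inv]
    field_simp [hζ0 σ τ]
  obtain ⟨C, hC⟩ := GalCohAux.Hilbert90GL.exists_eq_mul s hsco
  let f' : D → Matrix (Fin d) (Fin d) P := fun a =>
    ((C⁻¹ : GL (Fin d) P) : Matrix (Fin d) (Fin d) P) * f a * (C : Matrix (Fin d) (Fin d) P)
  have hfix : ∀ (σ : P ≃ₐ[N] P) a, T σ (f' a) = f' a := fun σ a => by
    have hC' : (s σ : Matrix (Fin d) (Fin d) P) * T σ (C : Matrix (Fin d) (Fin d) P) = C := hC σ
    have hsf : (s σ : Matrix (Fin d) (Fin d) P) * T σ (f a) = f a * (s σ : Matrix (Fin d) (Fin d) P) := by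
      rw [hs, Matrix.smul_mul, Matrix.mul_smul, hg]
    have h1 : (C : Matrix (Fin d) (Fin d) P) * T σ (f' a) = f a * (C : Matrix (Fin d) (Fin d) P) := by
      conv_lhs => rw [← hC']
      rw [mul_assoc, ← map_mul, ← mul_assoc, ← mul_assoc, Units.mul_inv, one_mul, map_mul, ← mul_assoc, hsf,
        mul_assoc, hC']
    show _ = ((C⁻¹ : GL (Fin d) P) : Matrix (Fin d) (Fin d) P) * f a * _
    rw [mul_assoc, ← h1, ← mul_assoc, Units.inv_mul, one_mul]
  have hrange : ∀ a i j, ∃ n : N, algebraMap N P n = f' a i j := fun a i j =>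
    (IsGalois.mem_range_algebraMap_iff_fixed (f' a i j)).2 fun σ => congrFun (congrFun (hfix σ a) i) j
  choose F hF using hrange
  let ι : Matrix (Fin d) (Fin d) N →ₐ[E] Matrix (Fin d) (Fin d) P := (IsScalarTower.toAlgHom E N P).mapMatrix
  have hι : Function.Injective ι := fun X Y h => by
    ext i j
    exact (algebraMap N P).injective (congrFun (congrFun h i) j)
  let conj : Matrix (Fin d) (Fin d) P →ₐ[E] Matrix (Fin d) (Fin d) P :=
    { toFun := fun X => ((C⁻¹ : GL (Fin d) P) : Matrix (Fin d) (Fin d) P) * X * (C : Matrix (Fin d) (Fin d) P)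
      map_one' := by rw [mul_one, Units.inv_mul]
      map_mul' := fun X Y => by simp only [mul_assoc, Units.mul_inv_cancel_left]
      map_zero' := by simp
      map_add' := fun X Y => by simp [mul_add, add_mul]
      commutes' := fun c => by
        rw [← Algebra.commutes, mul_assoc, Units.inv_mul, mul_one] }
  have hmemι : ∀ a, conj (f a) ∈ ι.range := fun a => ⟨Matrix.of (F a), by ext i j; exact hF a i j⟩
  exact CSA.splits_of_algHom_matrix E D N d hrank
    ((AlgEquiv.ofInjective ι hι).symm.toAlgHom.comp ((conj.comp f).codRestrict ι.range hmemι))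

/-- Main splitting statement. -/
theorem exists_galois_splitting_data (k K : Type u) [Field k] [IsAlgClosed k] [CharZero k] [Field K] [CharZero K]
    (E : Type u) [Field E] [Algebra K E] [FiniteDimensional K E]
    (D : Type u) [DivisionRing D] [Algebra E D] [Algebra.IsCentral E D] [FiniteDimensional E D] :
    ∃ (M : Type u) (_ : Field M) (_ : Algebra K M), FiniteDimensional K M ∧ IsGalois K M ∧
      ∀ (L L₀ : Type u) [Field L] [Algebra K L] [Field L₀] [Algebra k L₀] [Algebra L₀ L],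
        Algebra.trdeg k L₀ ≤ 1 →
        (∃ (A₀ : Type u) (_ : CommRing A₀) (_ : Algebra L₀ A₀), Module.Finite L₀ A₀ ∧
          ∃ φ : L ⊗[L₀] A₀ →ₐ[L] L ⊗[K] M, Function.Surjective φ) →
        ∀ (N : Type u) [Field N] [Algebra K N] [Algebra E N] [Algebra L N] [IsScalarTower K E N]
          [IsScalarTower K L N], Curves.Splits E D N := by
  classical
  obtain ⟨d, M, _, _, _, _, f, hd, hrank, hfin, hgal, hsc, hdet⟩ := exists_data K E D
  refine ⟨M, inferInstance, inferInstance, hfin, hgal, ?_⟩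
  intro L L₀ _ _ _ _ _ htr ⟨A₀, _, _, _, φ, hφ⟩ N _ _ _ _ _ _
  haveI : FiniteDimensional E M := Module.Finite.of_restrictScalars_finite K E M
  haveI : Normal E M := Normal.tower_top_of_normal K E M
  haveI : CharZero N := charZero_of_injective_algebraMap (algebraMap K N).injective
  let Ω := AlgebraicClosure N
  let ι : M →ₐ[E] Ω := IsAlgClosed.lift
  let bM := Module.finBasis E M
  let P : IntermediateField N Ω := IntermediateField.adjoin N (Set.range fun i => ι (bM i))
  have hιP : ∀ m, ι m ∈ P := fun m => by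
    rw [← bM.sum_repr m, map_sum]
    refine sum_mem fun i _ => ?_
    rw [map_smul, Algebra.smul_def, IsScalarTower.algebraMap_apply E N Ω]
    exact mul_mem (P.algebraMap_mem _) (IntermediateField.subset_adjoin N _ ⟨i, rfl⟩)
  haveI : FiniteDimensional N P :=
    IntermediateField.finiteDimensional_adjoin fun x _ => (Algebra.IsAlgebraic.isAlgebraic x).isIntegral
  haveI : Normal N P := by
    rw [IntermediateField.normal_iff_forall_map_le']
    intro τ
    rw [IntermediateField.adjoin_map, IntermediateField.adjoin_le_iff]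
    rintro _ ⟨_, ⟨i, rfl⟩, rfl⟩
    letI : Algebra M Ω := ι.toRingHom.toAlgebra
    haveI : IsScalarTower E M Ω := IsScalarTower.of_algebraMap_eq fun x => (ι.commutes x).symm
    have h := (τ.toAlgHom.restrictScalars E).restrictNormal_commutes M (bM i)
    show τ (ι (bM i)) ∈ P
    exact (show ι _ = τ (ι (bM i)) from h) ▸ hιP _
  haveI : IsGalois N P := ⟨⟩
  letI algMP : Algebra M P := (ι.toRingHom.codRestrict P hιP).toAlgebra
  haveI : IsScalarTower E M P := IsScalarTower.of_algebraMap_eq fun x => Subtype.ext (ι.commutes x).symm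
  letI algLN : Algebra L₀ N := ((algebraMap L N).comp (algebraMap L₀ L)).toAlgebra
  haveI : IsScalarTower L₀ N P := IsScalarTower.of_algebraMap_eq fun _ => rfl
  refine splits_of_generated htr hd hrank ((IsScalarTower.toAlgHom E M P).mapMatrix.comp f)
    (fun X hX => hsc P X hX) (fun τ => hdet P (τ.toAlgHom.restrictScalars E)) fun τ hτ => ?_
  -- automorphisms fixing the elements algebraic over `L₀` fix the image of `M`
  haveI : IsScalarTower K L P := IsScalarTower.of_algebraMap_eq fun x => by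
    show algebraMap N P (algebraMap K N x) = algebraMap N P (algebraMap L N (algebraMap K L x))
    rw [← IsScalarTower.algebraMap_apply K L N]
  haveI : IsScalarTower L₀ L P := IsScalarTower.of_algebraMap_eq fun _ => rfl
  haveI : IsScalarTower K M P := IsScalarTower.of_algebraMap_eq fun x => Subtype.ext <| by
    show algebraMap N Ω (algebraMap K N x) = ι (algebraMap K M x)
    rw [IsScalarTower.algebraMap_apply K E M, ι.commutes, IsScalarTower.algebraMap_apply K E N,
      IsScalarTower.algebraMap_apply E N Ω]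
  let ψ : L ⊗[K] M →ₐ[L] P :=
    Algebra.TensorProduct.lift (Algebra.ofId L P) (IsScalarTower.toAlgHom K M P) fun _ _ => Commute.all _ _
  let χ : A₀ →ₐ[L₀] P := ((ψ.comp φ).restrictScalars L₀).comp Algebra.TensorProduct.includeRight
  have hall : ∀ z : L ⊗[L₀] A₀, τ (ψ (φ z)) = ψ (φ z) := by
    intro z
    induction z using TensorProduct.induction_on with
    | zero => simp
    | add y z hy hz => simp only [map_add, hy, hz]
    | tmul l a =>
      have e : ψ (φ (l ⊗ₜ[L₀] a)) = algebraMap L P l * χ a := by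
        rw [show l ⊗ₜ[L₀] a = l • ((1 : L) ⊗ₜ[L₀] a) by rw [TensorProduct.smul_tmul', smul_eq_mul, mul_one],
          map_smul, map_smul, Algebra.smul_def]
        rfl
      have hl : τ (algebraMap L P l) = algebraMap L P l := τ.commutes _
      have hal : IsAlgebraic L₀ (χ a) := ((Algebra.IsIntegral.isIntegral a).map χ).isAlgebraic
      rw [e, map_mul, hl, hτ _ hal]
  have hfixM : ∀ m : M, τ (algebraMap M P m) = algebraMap M P m := fun m => by
    obtain ⟨z, hz⟩ := hφ (1 ⊗ₜ[K] m)
    have := hall z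
    rw [hz] at this
    simpa [ψ] using this
  apply AlgEquiv.ext
  intro x
  have : τ.toAlgHom = AlgHom.id N P := IntermediateField.adjoin_algHom_ext _ fun y hy => by
    obtain ⟨i, hi⟩ := hy
    have := hfixM (bM i)
    have e : (⟨y, IntermediateField.subset_adjoin N _ ⟨i, hi⟩⟩ : P) = algebraMap M P (bM i) := Subtype.ext hi.symm
    show τ _ = _
    rw [e]
    exact this
  exact DFunLike.congr_fun this x

end Groth.Agent.H13
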